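import Groth.Agent.Lib.Descend.BaseChangeAt
import Groth.Agent.S0114

/-! The smooth locus under flat base change, without presentation hypotheses on both maps. -/

universe u

open CategoryTheory CategoryTheory.Limits AlgebraicGeometry

set_option linter.style.haveILetI false
set_option backward.isDefEq.respectTransparency false
set_option backward.isDefEq.respectTransparency.types false

namespace Groth.Agent.SmoothBC16

open Groth.Agent

theorem exists_nhd_of_baseChange_lfp {P X Y Y' : Scheme.{u}} {fst : P ⟶ X} {snd : P ⟶ Y'} {f : X ⟶ Y}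
    {g : Y' ⟶ Y} (hP : IsPullback fst snd f g) [LocallyOfFinitePresentation f] [Flat g] (O' : P.Opens)
    (hO' : Smooth (O'.ι ≫ snd)) (x' : P) (hx' : x' ∈ O') :
    ∃ W : X.Opens, fst x' ∈ W ∧ Smooth (W.ι ≫ f) := by
  haveI : LocallyOfFinitePresentation snd := MorphismProperty.of_isPullback hP ‹_›
  rw [Descend.smooth_nhd_iff_mem_smoothLocus]
  exact Descend.mem_smoothLocus_of_flat_baseChange hP x'
    ((Descend.smooth_nhd_iff_mem_smoothLocus snd x').1 ⟨O', hx', hO'⟩)

/-- smoothness at a point descends along a flat base change, if either map is locally of finite presentation -/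
theorem exists_nhd_of_baseChange {P X Y Y' : Scheme.{u}} {fst : P ⟶ X} {snd : P ⟶ Y'} {f : X ⟶ Y}
    {g : Y' ⟶ Y} (hP : IsPullback fst snd f g) [Flat g]
    (h : LocallyOfFinitePresentation g ∨ LocallyOfFinitePresentation f) (O' : P.Opens)
    (hO' : Smooth (O'.ι ≫ snd)) (x' : P) (hx' : x' ∈ O') :
    ∃ W : X.Opens, fst x' ∈ W ∧ Smooth (W.ι ≫ f) := by
  rcases h with hg | hf
  swap
  · exact exists_nhd_of_baseChange_lfp hP O' hO' x' hx'
  haveI := hg
  haveI : Flat fst := MorphismProperty.of_isPullback hP.flip ‹_›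
  haveI : LocallyOfFinitePresentation fst := MorphismProperty.of_isPullback hP.flip ‹_›
  let W : X.Opens := ⟨Set.range (O'.ι ≫ fst), (O'.ι ≫ fst).isOpenMap.isOpen_range⟩
  let q : O'.toScheme ⟶ W.toScheme := IsOpenImmersion.lift W.ι (O'.ι ≫ fst) (by
    rw [Scheme.Opens.range_ι]; exact subset_rfl)
  have hq : q ≫ W.ι = O'.ι ≫ fst := IsOpenImmersion.lift_fac _ _ _
  haveI : Surjective q := by
    refine ⟨fun w => ?_⟩
    obtain ⟨p, hp⟩ := w.2
    exact ⟨p, W.ι.injective (by rw [← Scheme.Hom.comp_apply, hq]; exact hp)⟩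
  haveI : Flat (q ≫ W.ι) := by rw [hq]; infer_instance
  haveI : LocallyOfFinitePresentation (q ≫ W.ι) := by rw [hq]; infer_instance
  haveI : Flat q := MorphismProperty.of_postcomp (W' := @IsOpenImmersion) @Flat q W.ι inferInstance inferInstance
  haveI : LocallyOfFinitePresentation q :=
    MorphismProperty.of_postcomp (W' := @IsOpenImmersion) @LocallyOfFinitePresentation q W.ι inferInstance inferInstance
  haveI := hO'
  haveI : LocallyOfFinitePresentation (q ≫ W.ι ≫ f) := by
    rw [reassoc_of% hq, hP.w, ← Category.assoc]; infer_instance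
  haveI : LocallyOfFinitePresentation (W.ι ≫ f) := Groth.Agent.S0114.result q (W.ι ≫ f)
  have sq : IsPullback (pullback.fst W.ι fst) (pullback.snd W.ι fst ≫ snd) (W.ι ≫ f) g :=
    ((IsPullback.of_hasPullback W.ι fst).flip.paste_horiz hP.flip).flip
  let O'' : (pullback W.ι fst).Opens := pullback.snd W.ι fst ⁻¹ᵁ O'
  haveI : Smooth (O''.ι ≫ pullback.snd W.ι fst ≫ snd) := by
    rw [← Category.assoc, ← morphismRestrict_ι, Category.assoc]
    exact MorphismProperty.comp_mem @Smooth _ _ inferInstance hO'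
  have hxW : fst x' ∈ W := ⟨⟨x', hx'⟩, rfl⟩
  obtain ⟨z, hz₁, hz₂⟩ := Scheme.Pullback.exists_preimage_pullback (f := W.ι) (g := fst) ⟨fst x', hxW⟩ x' rfl
  obtain ⟨V, hV, hVs⟩ := exists_nhd_of_baseChange_lfp sq O'' ‹_› z (by show pullback.snd W.ι fst z ∈ O'; rw [hz₂]; exact hx')
  rw [hz₁] at hV
  refine ⟨W.ι ''ᵁ V, ⟨⟨fst x', hxW⟩, hV, rfl⟩, ?_⟩
  haveI := hVs
  rw [← W.ι.isoImage_inv_ι V, Category.assoc, Category.assoc]
  exact MorphismProperty.comp_mem @Smooth _ _ inferInstance hVs

end Groth.Agent.SmoothBC16
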