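import Groth.Agent.Lib.SmoothBC16.Scheme
import Groth.Agent.Lib.StAlg16.LargestOpen
import Groth.Agent.Lib.Bootst16.SmoothPart

/-! The largest open substack of smoothness under flat base change. -/

universe u

open CategoryTheory CategoryTheory.Functor CategoryTheory.Limits AlgebraicGeometry Opposite

set_option linter.style.haveILetI false
set_option linter.unusedSectionVars false
set_option backward.isDefEq.respectTransparency false
set_option backward.isDefEq.respectTransparency.types false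

namespace Groth.Agent.SmoothBC16

open Groth.Agent.FC16 hiding overMap
open Groth.Agent.StAlg Groth.Agent.StAlg16 AlgSt

variable {S : Scheme.{u}} {𝒳 𝒴 𝒵 : AlgSt.Cat S}

theorem exists_bc_chart' {f : 𝒳 ⥤ᵇ 𝒴} {U V V' M : Over S} {y : FibCat.overCat V ⥤ᵇ 𝒴}
    {c : FibCat.overCat U ⥤ᵇ FibCat.fp y f} {h : U ⟶ V}
    (j : BasedFunctor.comp c (FibCat.fpFst y f) ≅ AlgSt.overMap h)
    {b : V' ⟶ V} {p₁ : M ⟶ U} {p₂ : M ⟶ V'} (sq : IsPullback p₁ p₂ h b) :
    ∃ c' : FibCat.overCat M ⥤ᵇ FibCat.fp (BasedFunctor.comp (AlgSt.overMap b) y) f,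
      Nonempty (BasedFunctor.comp c' (FibCat.fpFst (BasedFunctor.comp (AlgSt.overMap b) y) f) ≅ AlgSt.overMap p₂) ∧
      Nonempty (BasedFunctor.comp c' (FibCat.fpSnd (BasedFunctor.comp (AlgSt.overMap b) y) f) ≅
        BasedFunctor.comp (AlgSt.overMap p₁) (BasedFunctor.comp c (FibCat.fpSnd y f))) ∧
      ∀ Q : MorphismProperty (AlgSp.Sp S), AlgSt.RepByAlgSpWith Q c → AlgSt.RepByAlgSpWith Q c' := by
  haveI := idFun_full (𝒳 := FibCat.overCat V)
  haveI := idFun_faithful (𝒳 := FibCat.overCat V)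
  let B := AlgSt.overMap b
  let π := FibCat.fpFst y f
  obtain ⟨E, hE, -, ⟨β⟩⟩ := exists_inverse (pasteR_isEquivOver B π c)
  let Γ := fpMap (F := B) (G := AlgSt.overMap h) (F' := B) (G' := BasedFunctor.comp c π) (a := BasedFunctor.id _)
    (b := BasedFunctor.id _) (s := BasedFunctor.id (FibCat.overCat V)) (Iso.refl _) j
  let Λ := BasedFunctor.comp (overPullback sq.flip.w) Γ
  have hΛ : FibCat.IsEquivOver Λ :=
    isEquivOver_comp (overPullback_isEquivOver sq.flip) (fpMap_isEquivOver _ _ isEquivOver_id isEquivOver_id)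
  let T := FibCat.fpFst (FibCat.fpSnd B π) c
  refine ⟨BasedFunctor.comp (BasedFunctor.comp (BasedFunctor.comp Λ E) T) (pasteL B y f), ⟨?_⟩, ⟨?_⟩, fun Q hQ => ?_⟩
  · exact wlIso Λ (wrIso β (FibCat.fpFst B (BasedFunctor.comp c π))) ≪≫
      (Iso.refl _ : BasedFunctor.comp Λ (FibCat.fpFst B (BasedFunctor.comp c π)) ≅ AlgSt.overMap p₂)
  · let σ := FibCat.fpSnd y f
    exact wlIso (BasedFunctor.comp Λ E) (wrIso (FibCat.fpIso (FibCat.fpSnd B π) c) σ) ≪≫
      wlIso Λ (wrIso (wrIso β (FibCat.fpSnd B (BasedFunctor.comp c π))) (BasedFunctor.comp c σ)) ≪≫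
      (Iso.refl _ : BasedFunctor.comp (BasedFunctor.comp Λ (FibCat.fpSnd B (BasedFunctor.comp c π)))
        (BasedFunctor.comp c σ) ≅ BasedFunctor.comp (AlgSt.overMap p₁) (BasedFunctor.comp c σ))
  · exact with_equiv_comp (pasteL_isEquivOver B y f)
      (with_comp_equiv (isEquivOver_comp hΛ hE) (with_fpFst _ hQ))

/-- squares for a base change of stacks, with both projections -/
theorem exists_fst_chart' {f : 𝒳 ⥤ᵇ 𝒴} {g : 𝒵 ⥤ᵇ 𝒴} {U V : Over S} {z : FibCat.overCat V ⥤ᵇ 𝒵}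
    {y' : FibCat.overCat V ⥤ᵇ 𝒴} (i : BasedFunctor.comp z g ≅ y')
    {c : FibCat.overCat U ⥤ᵇ FibCat.fp y' f} {h : U ⟶ V}
    (j : BasedFunctor.comp c (FibCat.fpFst y' f) ≅ AlgSt.overMap h) :
    ∃ c' : FibCat.overCat U ⥤ᵇ FibCat.fp z (FibCat.fpFst g f),
      Nonempty (BasedFunctor.comp c' (FibCat.fpFst z (FibCat.fpFst g f)) ≅ AlgSt.overMap h) ∧
      Nonempty (BasedFunctor.comp (BasedFunctor.comp c' (FibCat.fpSnd z (FibCat.fpFst g f))) (FibCat.fpSnd g f) ≅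
        BasedFunctor.comp c (FibCat.fpSnd y' f)) ∧
      ∀ Q : MorphismProperty (AlgSp.Sp S), AlgSt.RepByAlgSpWith Q c → AlgSt.RepByAlgSpWith Q c' := by
  haveI := idFun_full (𝒳 := 𝒴)
  haveI := idFun_faithful (𝒳 := 𝒴)
  let M := fpMap (F := y') (G := f) (F' := BasedFunctor.comp z g) (G' := f) (a := BasedFunctor.id _)
    (b := BasedFunctor.id _) (s := BasedFunctor.id 𝒴) i (Iso.refl _)
  have hM : FibCat.IsEquivOver M := fpMap_isEquivOver _ _ isEquivOver_id isEquivOver_id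
  obtain ⟨E, hE, -, ⟨β⟩⟩ := exists_inverse (pasteL_isEquivOver z g f)
  exact ⟨BasedFunctor.comp (BasedFunctor.comp c M) E,
    ⟨wlIso (BasedFunctor.comp c M) (wrIso β (FibCat.fpFst (BasedFunctor.comp z g) f)) ≪≫ j⟩,
    ⟨wlIso (BasedFunctor.comp c M) (wrIso β (FibCat.fpSnd (BasedFunctor.comp z g) f))⟩,
    fun Q hQ => with_equiv_comp hE (with_equiv_comp hM hQ)⟩

/-- an open set of a chart with smooth composite lies over the largest smooth open -/
theorem locQ_smooth_image (h𝒳 : IsAlgStack Scheme.fppfPrecoverage 𝒳) (h𝒴 : IsAlgStack Scheme.fppfPrecoverage 𝒴)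
    {f : 𝒳 ⥤ᵇ 𝒴} {U V : Over S} {y : FibCat.overCat V ⥤ᵇ 𝒴} (hy : AlgSt.RepByAlgSpWith (AlgSp.LocP @Smooth) y)
    {x : FibCat.overCat U ⥤ᵇ 𝒳} (hx : AlgSt.RepByAlgSpWith (AlgSp.LocP @Smooth) x) {h : U ⟶ V}
    (e : BasedFunctor.comp x f ≅ BasedFunctor.comp (AlgSt.overMap h) y) (W : U.left.Opens)
    (hW : Smooth (W.ι ≫ h.left)) :
    IsOpen (Points.ofChart x '' W) ∧
      AlgSt.LocQ (AlgSp.LocP @Smooth) (BasedFunctor.comp (AlgSt.subIncl 𝒳 (Qsub (Points.ofChart x '' W))) f) := by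
  have hU := isAlgStack_overCat U
  have hop := isOpenMap_ofChart h𝒳.isStack.1 (with_locP_mono smooth_le_flat hx) (with_locP_mono smooth_le_lfp hx)
  refine ⟨hop _ W.2, ?_⟩
  have hq : AlgSt.LocQ (AlgSp.LocP @Smooth) x :=
    (locQ_iff_with isSmoothLocalST_smooth pbP_locP Bootst16.isLocalOnBase_fppf_locP_smooth hU h𝒳
      (repByAlgSp1_of_with hx)).2 hx
  -- the open `W` as an open substack of the chart
  let T₀ : Set (Points (FibCat.overCat U)) := ptOf ⁻¹' W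
  have hT₀ : IsOpen T₀ := by
    have hid : AlgSt.RepByAlgSpWith (AlgSp.LocP @Smooth) (BasedFunctor.id (FibCat.overCat U)) :=
      with_id_overCat U
    have e : T₀ = Points.ofChart (BasedFunctor.id (FibCat.overCat U)) '' W := by
      ext z
      constructor
      · intro hz
        exact ⟨ptOf z, hz, by rw [ofChart_eq, StAlg16.map_id_apply, mk_chartPt_ptOf]⟩
      · rintro ⟨t, ht, rfl⟩
        show ptOf _ ∈ W
        rw [ofChart_eq, StAlg16.map_id_apply, ptOf_chartPt]; exact ht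
    rw [e]
    exact isOpenMap_ofChart (overCat_isFibGrpd U) (with_locP_mono smooth_le_flat hid) (with_locP_mono smooth_le_lfp hid) _ W.2
  obtain ⟨O, E, hO, hE, hE'⟩ := exists_fp_subIncl hT₀ hU (BasedFunctor.id (FibCat.overCat U))
  have hOW : O = W := TopologicalSpace.Opens.ext (hO.trans (by
    ext t
    show ptOf (Points.map (BasedFunctor.id (FibCat.overCat U)) (Points.mk (chartPt U t))) ∈ W ↔ t ∈ W
    rw [StAlg16.map_id_apply, ptOf_chartPt]))
  subst hOW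
  have himg : Points.map x '' T₀ = Points.ofChart x '' O := by
    ext p
    constructor
    · rintro ⟨q, hq, rfl⟩
      exact ⟨ptOf q, hq, by rw [ofChart_eq, mk_chartPt_ptOf]⟩
    · rintro ⟨t, ht, rfl⟩
      exact ⟨Points.mk (chartPt U t), by show ptOf _ ∈ O; rw [ptOf_chartPt]; exact ht, rfl⟩
  let incl := AlgSt.subIncl (FibCat.overCat U) (Qsub T₀)
  let x₀ := BasedFunctor.comp E (FibCat.fpSnd (BasedFunctor.id _) incl)
  have hA := isAlgStack_fullSub_qsub hT₀ hU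
  have hx₀ : AlgSt.RepByAlgSpWith (AlgSp.LocP @Smooth) x₀ :=
    with_comp_equiv hE (with_fpSnd incl (with_id_overCat U))
  have hx₀s : AlgSt.RepByAlgSpWith AlgSp.IsSurjectiveMor x₀ :=
    with_comp_equiv hE (with_fpSnd incl (with_surjective_of_isSurjective (overCat_isFibGrpd U) (overCat_isFibGrpd U)
      (repByAlgSp1_of_with (with_id_overCat (R := @Smooth) U)) (fun p => ⟨p, StAlg16.map_id_apply p⟩)))
  have hloc : AlgSt.LocQ (AlgSp.LocP @Smooth)
      (BasedFunctor.comp incl (BasedFunctor.comp x f)) := by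
    refine ⟨openPart O, V, x₀, y, openIncl O ≫ h, ?_, hx₀, hx₀s, hy,
      (locP_yon_iff _).2 hW⟩
    exact wrIso (wlIso E (FibCat.fpIso (BasedFunctor.id _) incl).symm ≪≫ eqToIso hE') (BasedFunctor.comp x f) ≪≫
      wlIso (AlgSt.overMap (openIncl O)) e ≪≫ wrIso (overMapComp (openIncl O) h) y
  exact ((locQ_qsub_comp_smooth_iff isSmoothLocalST_smooth hU h𝒳 h𝒴 hq (hop _ O.2)).2 T₀ hT₀ himg hloc)

theorem largest_fp (h𝒳 : IsAlgStack Scheme.fppfPrecoverage 𝒳) (h𝒴 : IsAlgStack Scheme.fppfPrecoverage 𝒴)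
    (h𝒵 : IsAlgStack Scheme.fppfPrecoverage 𝒵) (f : 𝒳 ⥤ᵇ 𝒴) (g : 𝒵 ⥤ᵇ 𝒴)
    (hg : AlgSt.LocQ (AlgSp.LocP @Flat) g)
    (hfp : AlgSt.LocQ (AlgSp.LocP @LocallyOfFinitePresentation) g ∨
      AlgSt.LocQ (AlgSp.LocP @LocallyOfFinitePresentation) f)
    (Q : 𝒳.obj → Prop) (hQ₁ : AlgSt.IsOpenSubstack 𝒳 Q Scheme.fppfPrecoverage)
    (hQ₂ : AlgSt.LocQ (AlgSp.LocP @Smooth) (BasedFunctor.comp (AlgSt.subIncl 𝒳 Q) f))
    (hQ₃ : ∀ Q' : 𝒳.obj → Prop, AlgSt.IsOpenSubstack 𝒳 Q' Scheme.fppfPrecoverage →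
      AlgSt.LocQ (AlgSp.LocP @Smooth) (BasedFunctor.comp (AlgSt.subIncl 𝒳 Q') f) → ∀ a, Q' a → Q a) :
    AlgSt.IsOpenSubstack (FibCat.fp g f) (fun b ↦ Q b.obj.snd) Scheme.fppfPrecoverage ∧
      AlgSt.LocQ (AlgSp.LocP @Smooth)
        (BasedFunctor.comp (AlgSt.subIncl (FibCat.fp g f) fun b ↦ Q b.obj.snd) (FibCat.fpFst g f)) ∧
      ∀ Q' : (FibCat.fp g f).obj → Prop, AlgSt.IsOpenSubstack (FibCat.fp g f) Q' Scheme.fppfPrecoverage →
        AlgSt.LocQ (AlgSp.LocP @Smooth) (BasedFunctor.comp (AlgSt.subIncl (FibCat.fp g f) Q') (FibCat.fpFst g f)) →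
        ∀ b, Q' b → Q b.obj.snd := by
  have gX := h𝒳.isStack.1; have gY := h𝒴.isStack.1; have gZ := h𝒵.isStack.1
  have hF := StAlg.isAlgStack_fp h𝒴.isStack h𝒴.diag h𝒵 h𝒳 g f
  let π := FibCat.fpSnd g f
  have hT := isOpen_range_subIncl h𝒳 hQ₁
  have e : Q = Qsub (Set.range (Points.map (AlgSt.subIncl 𝒳 Q))) := funext fun b => propext (substack_eq_qsub h𝒳 hQ₁ b)
  revert hT e
  generalize Set.range (Points.map (AlgSt.subIncl 𝒳 Q)) = T
  intro hT e
  subst e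
  have eg : (fun b : (FibCat.fp g f).obj ↦ Qsub T b.obj.snd) = Qsub (Points.map π ⁻¹' T) :=
    funext fun b => propext (qsub_preimage_iff hF.isStack.1 gX π T b)
  have hT' : IsOpen (Points.map π ⁻¹' T) := hT.preimage (continuous_map h𝒳 π)
  obtain ⟨V, y, hy, hys⟩ := h𝒴.atlas
  obtain ⟨U, h, c, ⟨j⟩, hc, hcs⟩ := exists_good h𝒳 h𝒴 f y
  obtain ⟨V', b, cg, ⟨jg⟩, hcg, hcgs⟩ := exists_good h𝒵 h𝒴 g y
  let x := BasedFunctor.comp c (FibCat.fpSnd y f)
  let z := BasedFunctor.comp cg (FibCat.fpSnd y g)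
  have hz := with_fpSnd_chart goodP_locP gZ gY hcg hy
  have hzs := with_fpSnd_chart goodP_surjective gZ gY hcgs hys
  have sq := IsPullback.of_hasPullback h b
  obtain ⟨c₁, ⟨j₁⟩, ⟨k₁⟩, hc₁⟩ := exists_bc_chart' j sq
  obtain ⟨c₃, ⟨j₃⟩, ⟨k₃⟩, hc₃⟩ := exists_fst_chart' (g := g) (squareIso jg) j₁
  have hc₃s := hc₃ _ (hc₁ _ hc)
  have hc₃ss := hc₃ _ (hc₁ _ hcs)
  let p₁ := pullback.fst h b
  let p₂ := pullback.snd h b
  have sq' : IsPullback p₁.left p₂.left h.left b.left := sq.map (Over.forget S)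
  haveI : Flat b.left := (locP_yon_iff b).1 (of_locQ isSmoothLocalST_flat gZ gY hg hy jg hcg)
  have hlfp : LocallyOfFinitePresentation b.left ∨ LocallyOfFinitePresentation h.left :=
    hfp.imp (fun hp => (locP_yon_iff b).1 (of_locQ isSmoothLocalST_lfp gZ gY hp hy jg hcg))
      fun hp => (locP_yon_iff h).1 (of_locQ isSmoothLocalST_lfp gX gY hp hy j hc)
  let x' := BasedFunctor.comp c₃ (FibCat.fpSnd z (FibCat.fpFst g f))
  have hxx : ∀ s, Points.map π (Points.ofChart x' s) = Points.ofChart x (p₁.left s) := fun s => by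
    rw [ofChart_eq, ← map_comp_apply, ← ofChart_eq, ofChart_congr k₃, ofChart_congr k₁, ofChart_overMap]
  refine ⟨?_, ?_, fun Q' hQ' h' a ha => ?_⟩
  · rw [eg]; exact isOpenSubstack_qsub hT' hF
  · rw [eg]
    let O : U.left.Opens := ⟨Points.ofChart x ⁻¹' T, hT.preimage (continuous_ofChart h𝒳 x)⟩
    refine (locQ_qsub_iff isSmoothLocalST_smooth hF h𝒵 hz hzs j₃ hc₃s hc₃ss hT' (O := p₁.left ⁻¹ᵁ O) ?_).2 ?_
    · ext s
      exact (iff_of_eq (congrArg (· ∈ T) (hxx s))).symm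
    · have hs : Smooth (O.ι ≫ h.left) := (locP_yon_iff _).1
        ((locQ_qsub_iff isSmoothLocalST_smooth h𝒳 h𝒴 hy hys j hc hcs hT (O := O) rfl).1 hQ₂)
      refine (locP_yon_iff _).2 ?_
      show Smooth ((p₁.left ⁻¹ᵁ O).ι ≫ p₂.left)
      exact MorphismProperty.of_isPullback ((isPullback_morphismRestrict p₁.left O).flip.paste_horiz sq'.flip).flip hs
  · have hT₁ := isOpen_range_subIncl hF hQ'
    have e' : Q' = Qsub (Set.range (Points.map (AlgSt.subIncl (FibCat.fp g f) Q'))) :=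
      funext fun b => propext (substack_eq_qsub hF hQ' b)
    rw [e'] at h' ha
    revert hT₁ h' ha
    generalize Set.range (Points.map (AlgSt.subIncl (FibCat.fp g f) Q')) = T₁
    intro h' ha hT₁
    show Qsub T a.obj.snd
    rw [congrFun eg a]
    refine qsub_mono (fun p hp => ?_) ha
    obtain ⟨s, rfl⟩ := surjective_ofChart hF.isStack.1
      (with_fpSnd_chart goodP_surjective hF.isStack.1 gZ hc₃ss hzs) p
    let O' : (pullback h b).left.Opens := ⟨Points.ofChart x' ⁻¹' T₁, hT₁.preimage (continuous_ofChart hF x')⟩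
    have hs : Smooth (O'.ι ≫ p₂.left) := (locP_yon_iff _).1
      ((locQ_qsub_iff isSmoothLocalST_smooth hF h𝒵 hz hzs j₃ hc₃s hc₃ss hT₁ (O := O') rfl).1 h')
    obtain ⟨W, hsW, hW⟩ := exists_nhd_of_baseChange sq' hlfp O' hs s hp
    obtain ⟨ho, hl⟩ := locQ_smooth_image h𝒳 h𝒴 hy (with_fpSnd_chart goodP_locP gX gY hc hy) (squareIso j) W hW
    show Points.map π (Points.ofChart x' s) ∈ T
    rw [hxx]
    obtain ⟨q, hq⟩ := Points.mk_surjective (Points.ofChart x (p₁.left s))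
    rw [← hq]
    exact hQ₃ _ (isOpenSubstack_qsub ho h𝒳) hl q.obj (qsub_pt (hq ▸ ⟨p₁.left s, hsW, rfl⟩)) q (𝟙 _)

end Groth.Agent.SmoothBC16
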